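import Mathlib
/-!
Sections of an integral scheme with integrally closed stalks.
-/
universe u
open AlgebraicGeometry CategoryTheory TopologicalSpace Opposite
set_option backward.isDefEq.respectTransparency false

namespace Groth.Agent.NormSect

variable {X : Scheme.{u}} [IsIntegral X]

/-- germ to the function field is compatible with restriction -/
theorem germTo_res {U V : X.Opens} [Nonempty U] [Nonempty V] (h : V ≤ U) (s : Γ(X, U)) :
    X.germToFunctionField V (X.presheaf.map (homOfLE h).op s) = X.germToFunctionField U s := by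
  exact X.presheaf.germ_res_apply (homOfLE h) _ _ s

theorem isIntegrallyClosed_sections (U : X.Opens) [Nonempty U]
    (hX : ∀ x ∈ U, IsIntegrallyClosed (X.presheaf.stalk x)) : IsIntegrallyClosed Γ(X, U) := by
  let K := X.functionField
  let F := FractionRing Γ(X, U)
  let g : Γ(X, U) →+* K := (X.germToFunctionField U).hom
  have hg : Function.Injective g := germ_injective_of_isIntegral X (genericPoint X) _
  let ι : F →+* K := IsFractionRing.lift hg
  refine (isIntegrallyClosed_iff F).2 fun {a} ha => ?_
  have hloc : ∀ p : U, ∃ (V : X.Opens) (_ : Nonempty V) (_ : p.1 ∈ V) (_ : V ≤ U) (s : Γ(X, V)),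
      X.germToFunctionField V s = ι a := by
    intro p
    haveI := hX p.1 p.2
    have hint : IsIntegral (X.presheaf.stalk p.1) (ι a) := by
      obtain ⟨P, hP, h0⟩ := ha
      refine ⟨P.map (X.presheaf.germ U p.1 p.2).hom, hP.map _, ?_⟩
      rw [Polynomial.eval₂_map]
      have hc : (algebraMap (X.presheaf.stalk p.1) K).comp (X.presheaf.germ U p.1 p.2).hom =
          ι.comp (algebraMap Γ(X, U) F) := by
        ext r
        rw [RingHom.comp_apply, RingHom.comp_apply, IsFractionRing.lift_algebraMap]
        exact X.presheaf.germ_stalkSpecializes_apply (U := U) p.2 ((genericPoint_spec X).specializes (Set.mem_univ p.1)) r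
      rw [hc, ← Polynomial.hom_eval₂, h0, map_zero]
    obtain ⟨t, ht⟩ := IsIntegrallyClosed.isIntegral_iff.1 hint
    obtain ⟨V, hpV, s, hs⟩ := X.presheaf.germ_exist t
    haveI : Nonempty ((V ⊓ U : X.Opens) : Scheme.{u}) := ⟨⟨p.1, hpV, p.2⟩⟩
    refine ⟨V ⊓ U, inferInstance, ⟨hpV, p.2⟩, inf_le_right, X.presheaf.map (homOfLE inf_le_left).op s, ?_⟩
    haveI : Nonempty V := ⟨⟨p.1, hpV⟩⟩
    rw [germTo_res inf_le_left s]
    rw [← ht, ← hs]
    exact (X.presheaf.germ_stalkSpecializes_apply (U := V) hpV ((genericPoint_spec X).specializes (Set.mem_univ p.1)) s).symm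
  choose V hne hpV hVU s hs using hloc
  have hcompat : TopCat.Presheaf.IsCompatible X.presheaf V s := by
    intro i j
    haveI := hne i; haveI := hne j
    have hne' : ((V i : Set X) ∩ V j).Nonempty :=
      nonempty_preirreducible_inter (V i).2 (V j).2 ⟨i.1, hpV i⟩ ⟨j.1, hpV j⟩
    haveI : Nonempty ((V i ⊓ V j : X.Opens) : Scheme.{u}) := hne'.to_subtype
    apply germ_injective_of_isIntegral X (genericPoint X)
      (((genericPoint_spec X).mem_open_set_iff (V i ⊓ V j).2).2 (by simpa using hne'))
    exact ((germTo_res inf_le_left (s i)).trans ((hs i).trans (hs j).symm)).trans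
      (germTo_res inf_le_right (s j)).symm
  obtain ⟨σ, hσ, -⟩ := X.sheaf.existsUnique_gluing' V U (fun i => homOfLE (hVU i))
    (fun x hx => Opens.mem_iSup.2 ⟨⟨x, hx⟩, hpV ⟨x, hx⟩⟩) s hcompat
  refine ⟨σ, ι.injective ?_⟩
  rw [IsFractionRing.lift_algebraMap]
  obtain ⟨p⟩ := ‹Nonempty U›
  haveI := hne p
  rw [← hs p, ← hσ p]
  exact (germTo_res (hVU p) σ).symm

theorem isIntegrallyClosed_stalk (U : X.Opens) [Nonempty U] (hU : IsAffineOpen U)
    [IsIntegrallyClosed Γ(X, U)] (x : U) : IsIntegrallyClosed (X.presheaf.stalk x.1) := by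
  haveI := hU.isLocalization_stalk x
  exact isIntegrallyClosed_of_isLocalization _ (hU.primeIdealOf x).asIdeal.primeCompl
    (hU.primeIdealOf x).asIdeal.primeCompl_le_nonZeroDivisors

end Groth.Agent.NormSect
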